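import Cfsg.Agent.Lib.OrthMax.Main
import Cfsg.Agent.Lib.OrthMax.Two.Plane

/-!
An overgroup of the stabiliser of a decomposition into planes: elements of the stabiliser, and the class of
non-singular vectors whose reflection times a fixed reflection lies in the overgroup.
-/

set_option autoImplicit false
set_option linter.unusedSectionVars false

namespace Cfsg.Agent.Lib.OrthMax.Five

open QuadraticMap
open Cfsg.Agent.Lib.OrthMax.Two (exists_nonsing exists_perp mem_pair exists_dual perp_eq singular_cases Q_perp_ne exists_value isSquare_disc disp mem_disp exists_dual_indep card_disp card_filter_quad_le card_filter_lin_le addSubgroup_mul_mem isSquare_mul_of_not)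
open Cfsg.Agent.Lib.FormMax.OrthSL (eichlerGL eichlerGL_mulVec Q_eichlerGL)

variable {ι : Type} [Fintype ι] [DecidableEq ι] {F : Type*} [Field F] [Fintype F]
  {Q : QuadraticForm F (ι → F)} {t : ℕ} {D : Fin t → Submodule F (ι → F)} {M : Subgroup (GL ι F)}

local notation "Vs" => (ι → F)

/-- The hypotheses on the decomposition and the overgroup. -/
structure Cfg (Q : QuadraticForm F (ι → F)) {t : ℕ} (D : Fin t → Submodule F (ι → F))
    (M : Subgroup (GL ι F)) : Prop where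
  nondeg : (QuadraticMap.polarBilin Q).Nondegenerate
  dec : Dec Q 2 D
  big : 5 ≤ t
  iso : ∀ i j, Cfsg.Geo.AreIsometricFor (⇑Q) (D i) (D j)
  field : 7 ≤ Fintype.card F ∨ ((∀ i, ∀ x ∈ D i, Q x = 0 → x = 0) ∧ Fintype.card F ≠ 3)
  sup : Cfsg.Geo.decompositionStabilizer D ⊓ Cfsg.Geo.omegaGL ⇑Q ≤ M
  sub : M ≤ Cfsg.Geo.omegaGL ⇑Q

variable (Q D) in
/-- The isometry maps summands into summands. -/
def Pres (g : ↥(Cfsg.isometryGroup F ⇑Q)) : Prop :=
  ∃ σ : Equiv.Perm (Fin t), ∀ i, ∀ x ∈ D i, Orth.app g x ∈ D (σ i)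

theorem Pres.mul {g g' : ↥(Cfsg.isometryGroup F ⇑Q)} (hg : Pres Q D g) (hg' : Pres Q D g') : Pres Q D (g * g') := by
  obtain ⟨σ, hσ⟩ := hg
  obtain ⟨τ, hτ⟩ := hg'
  exact ⟨σ * τ, fun i x hx => by rw [Orth.app_mul, Equiv.Perm.mul_apply]; exact hσ _ _ (hτ i x hx)⟩

theorem pres_refl (h : Dec Q 2 D) {l : Fin t} {d : Vs} (hd : d ∈ D l) (hd0 : Q d ≠ 0) :
    Pres Q D (Orth.refl Q d hd0) := by
  refine ⟨1, fun i x hx => ?_⟩
  rw [Equiv.Perm.one_apply]
  by_cases hil : i = l
  · subst hil; rw [Orth.app_refl]; exact (D i).sub_mem hx ((D i).smul_mem _ hd)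
  · rw [Orth.app_refl_of_polar_eq_zero hd0 (h.orth (Ne.symm hil) hd hx)]; exact hx

theorem isSquare_of_two {F : Type*} [Field F] [Finite F] (h2 : (2 : F) = 0) (x : F) : IsSquare x := by
  haveI : CharP F 2 := CharTwo.of_one_ne_zero_of_two_eq_zero one_ne_zero h2
  obtain ⟨s, hs⟩ := surjective_frobenius F 2 x
  exact ⟨s, by rw [← hs, frobenius_def, pow_two]⟩

/-- The product of two reflections of the same class lies in `Ω`. -/
theorem refl_mul_mem_omega (hQ : (QuadraticMap.polarBilin Q).Nondegenerate) (hn : 7 ≤ Fintype.card ι)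
    {u v : Vs} (hu : Q u ≠ 0) (hv : Q v ≠ 0) (hs : IsSquare (Q u * Q v)) :
    Orth.refl Q u hu * Orth.refl Q v hv ∈ Cfsg.Omega F ⇑Q := by
  by_cases h2 : (2 : F) = 0
  · haveI : CharP F 2 := CharTwo.of_one_ne_zero_of_two_eq_zero one_ne_zero h2
    rcases mem_omega_or_two hQ hn hu (Orth.refl Q u hu * Orth.refl Q v hv) with h | h
    · exact h
    rw [← mul_assoc, Orth.refl_mul_self, one_mul] at h
    rcases mem_omega_or_two hQ hn hv (Orth.refl Q u hu) with h' | h'
    · exact mul_mem h' h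
    · have := (Cfsg.Omega F ⇑Q).inv_mem h'
      rwa [mul_inv_rev, Orth.refl_inv, Orth.refl_inv] at this
  rw [Orth.mem_omega_iff h2 hQ (by omega : 2 ≤ Fintype.card ι), map_mul, map_mul,
    Orth.detSign_refl h2 hQ hu, Orth.detSign_refl h2 hQ hv]
  refine ⟨by simp, ?_⟩
  by_cases hsu : IsSquare (Q u)
  · have hsv : IsSquare (Q v) := by
      have := hs.mul hsu.inv
      rwa [mul_comm (Q u), mul_inv_cancel_right₀ hu] at this
    rw [Orth.spinor_refl_of_isSquare h2 hu hsu, Orth.spinor_refl_of_isSquare h2 hv hsv]; simp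
  · have hsv : ¬ IsSquare (Q v) := fun h' => hsu (by
      have := hs.mul h'.inv
      rwa [mul_inv_cancel_right₀ hv] at this)
    rw [Orth.spinor_refl_of_not_isSquare h2 hu hsu, Orth.spinor_refl_of_not_isSquare h2 hv hsv]; simp

open Classical in
/-- The summands in which a vector has a component. -/
noncomputable def supp (h : Dec Q 2 D) (v : Vs) : Finset (Fin t) :=
  Finset.univ.filter fun i => h.proj i v ≠ 0

theorem mem_supp {h : Dec Q 2 D} {v : Vs} {i : Fin t} : i ∈ supp h v ↔ h.proj i v ≠ 0 := by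
  classical
  simp [supp]

theorem not_mem_supp {h : Dec Q 2 D} {v : Vs} {i : Fin t} : i ∉ supp h v ↔ h.proj i v = 0 := by
  rw [mem_supp, not_not]

theorem supp_nonempty {h : Dec Q 2 D} {v : Vs} (hv : v ≠ 0) : (supp h v).Nonempty := by
  by_contra hc
  rw [Finset.not_nonempty_iff_eq_empty, Finset.eq_empty_iff_forall_notMem] at hc
  exact hv (by rw [← h.sum_proj v]; exact Finset.sum_eq_zero fun i _ => not_mem_supp.mp (hc i))

theorem exists_notMem_finset {t : ℕ} (S : Finset (Fin t)) (hS : S.card < t) : ∃ l, l ∉ S := by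
  by_contra hc
  push Not at hc
  have := Finset.card_le_card (show (Finset.univ : Finset (Fin t)) ⊆ S from fun x _ => hc x)
  rw [Finset.card_univ, Fintype.card_fin] at this
  omega

/-- An isometry preserving the decomposition commutes with the projections. -/
theorem proj_app (h : Dec Q 2 D) {g : ↥(Cfsg.isometryGroup F ⇑Q)} {σ : Equiv.Perm (Fin t)}
    (hσ : ∀ i, ∀ x ∈ D i, Orth.app g x ∈ D (σ i)) (i : Fin t) (x : Vs) :
    h.proj (σ i) (Orth.app g x) = Orth.app g (h.proj i x) := by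
  refine h.proj_eq (hσ i _ (h.proj_mem i x)) fun y hy => ?_
  have hmap : (D i).map (Matrix.mulVecLin ((g : GL ι F) : Matrix ι ι F)) = D (σ i) := by
    refine Submodule.eq_of_le_of_finrank_eq ?_ ?_
    · rintro _ ⟨z, hz, rfl⟩; exact hσ i z hz
    · rw [← (Submodule.equivMapOfInjective _ (ap_injective _) (D i)).finrank_eq, h.finrank_eq, h.finrank_eq]
  obtain ⟨z, hz, rfl⟩ := hmap.ge hy
  show polar ⇑Q (Orth.app g (h.proj i x)) (Orth.app g z) = polar ⇑Q (Orth.app g x) (Orth.app g z)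
  rw [Orth.polar_app, Orth.polar_app, h.polar_proj hz]

namespace Cfg

variable (C : Cfg Q D M)
include C

theorem card_ge : 7 ≤ Fintype.card ι := by
  have := C.dec.card_eq; have := C.big; omega

theorem mem (g : ↥(Cfsg.isometryGroup F ⇑Q)) (hp : Pres Q D g) (hΩ : g ∈ Cfsg.Omega F ⇑Q) : (g : GL ι F) ∈ M := by
  obtain ⟨σ, hσ⟩ := hp
  exact C.sup ⟨mem_decompositionStabilizer C.dec σ hσ, Subgroup.mem_map_of_mem _ hΩ⟩

theorem pair_mem {l l' : Fin t} {d d' : Vs} (hd : d ∈ D l) (hd' : d' ∈ D l') (h0 : Q d ≠ 0) (h0' : Q d' ≠ 0)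
    (hs : IsSquare (Q d * Q d')) : ((Orth.refl Q d h0 * Orth.refl Q d' h0' : ↥(Cfsg.isometryGroup F ⇑Q)) : GL ι F) ∈ M :=
  C.mem _ ((pres_refl C.dec hd h0).mul (pres_refl C.dec hd' h0'))
    (refl_mul_mem_omega C.nondeg C.card_ge h0 h0' hs)

theorem value (l : Fin t) {α : F} (hα : α ≠ 0) : ∃ v ∈ D l, Q v = α := exists_value C.dec C.nondeg l hα

theorem exists_fix (l : Fin t) (g : ↥(Cfsg.isometryGroup F ⇑Q)) : ∃ r : ↥(Cfsg.isometryGroup F ⇑Q), r * g ∈ Cfsg.Omega F ⇑Q ∧
    (∀ x ∈ D l, Orth.app r x ∈ D l) ∧ ∀ j, j ≠ l → ∀ x ∈ D j, Orth.app r x = x := by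
  let Good : ↥(Cfsg.isometryGroup F ⇑Q) → Prop := fun r =>
    (∀ x ∈ D l, Orth.app r x ∈ D l) ∧ ∀ j, j ≠ l → ∀ x ∈ D j, Orth.app r x = x
  have hgood : ∀ (v : Vs) (hv : Q v ≠ 0), v ∈ D l → Good (Orth.refl Q v hv) := fun v hv hvD =>
    ⟨fun x hx => by rw [Orth.app_refl]; exact (D l).sub_mem hx ((D l).smul_mem _ hvD),
      fun j hj x hx => Orth.app_refl_of_polar_eq_zero hv (C.dec.orth hj.symm hvD hx)⟩
  have hone : Good 1 := ⟨fun x hx => by simpa using hx, fun j _ x _ => by simp⟩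
  have hmul : ∀ r r', Good r → Good r' → Good (r * r') := fun r r' h1 h3 =>
    ⟨fun x hx => by rw [Orth.app_mul]; exact h1.1 _ (h3.1 x hx),
      fun j hj x hx => by rw [Orth.app_mul, h3.2 j hj x hx, h1.2 j hj x hx]⟩
  by_cases h2 : (2 : F) = 0
  · haveI : CharP F 2 := CharTwo.of_one_ne_zero_of_two_eq_zero one_ne_zero h2
    obtain ⟨v, hv, hvQ⟩ := C.value l one_ne_zero
    have hv0 : Q v ≠ 0 := hvQ ▸ one_ne_zero
    rcases mem_omega_or_two C.nondeg C.card_ge hv0 g with hg | hg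
    · exact ⟨1, by rwa [one_mul], hone⟩
    · exact ⟨_, hg, hgood _ hv0 hv⟩
  obtain ⟨ns, hns⟩ := FiniteField.exists_nonsquare (F := F) fun hc => h2 (by
    haveI := ringChar.of_eq hc
    exact CharTwo.two_eq_zero)
  obtain ⟨va, hva, hQa⟩ := C.value l one_ne_zero
  obtain ⟨vb, hvb, hQb⟩ := C.value l (α := ns) (fun e => hns (e ▸ IsSquare.zero))
  have h1 : Q va ≠ 0 := hQa ▸ one_ne_zero
  have h3 : Q vb ≠ 0 := by rw [hQb]; exact fun e => hns (e ▸ IsSquare.zero)
  set a := Orth.refl Q _ h1 with ha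
  set b := Orth.refl Q _ h3 with hb
  have hda := Orth.detSign_refl h2 C.nondeg h1
  have hdb := Orth.detSign_refl h2 C.nondeg h3
  have hsa := Orth.spinor_refl_of_isSquare h2 h1 (by rw [hQa]; exact IsSquare.one)
  have hsb := Orth.spinor_refl_of_not_isSquare h2 h3 (by rw [hQb]; exact hns)
  have hga := hgood _ h1 hva
  have hgb := hgood _ h3 hvb
  have hmem := fun x => Orth.mem_omega_iff h2 C.nondeg (by have := C.card_ge; omega : 2 ≤ Fintype.card ι) x
  rcases Int.units_eq_one_or (Orth.detSign Q h2 C.nondeg g) with hdg | hdg <;>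
    rcases Int.units_eq_one_or (Orth.spinor Q g) with hsg | hsg
  · exact ⟨1, (hmem _).mpr (by simp [hdg, hsg]), hone⟩
  · exact ⟨a * b, (hmem _).mpr (by simp [ha, hb, hdg, hsg, hda, hdb, hsa, hsb]), hmul _ _ hga hgb⟩
  · exact ⟨b, (hmem _).mpr (by simp [hb, hdg, hsg, hdb, hsb]), hgb⟩
  · exact ⟨a, (hmem _).mpr (by simp [ha, hdg, hsg, hda, hsa]), hga⟩

/-- The swap of two summands, corrected in a third one. -/
theorem exists_swapH {l l' l'' : Fin t} (hll : l ≠ l') :
    ∃ g : ↥(Cfsg.isometryGroup F ⇑Q), (g : GL ι F) ∈ M ∧ Pres Q D g ∧ (∀ i, ∀ x ∈ D i, Orth.app g x ∈ D (Equiv.swap l l' i)) ∧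
      ∀ j, j ≠ l → j ≠ l' → j ≠ l'' → ∀ x ∈ D j, Orth.app g x = x := by
  obtain ⟨e, he⟩ := C.iso l l'
  obtain ⟨s, hs1, hs2, hs3⟩ := exists_swap C.nondeg C.dec hll e he
  obtain ⟨r, hr, hr1, hr2⟩ := C.exists_fix l'' s
  have hr' : ∀ j, ∀ x ∈ D j, Orth.app r x ∈ D j := fun j x hx => by
    by_cases h1 : j = l''
    · subst h1; exact hr1 x hx
    · rw [hr2 j h1 x hx]; exact hx
  have hσ : ∀ i, ∀ x ∈ D i, Orth.app (r * s) x ∈ D (Equiv.swap l l' i) := fun i x hx => by
    rw [Orth.app_mul]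
    refine hr' _ _ ?_
    by_cases h1 : i = l
    · subst h1; rw [Equiv.swap_apply_left]; exact hs1 x hx
    by_cases h2 : i = l'
    · subst h2; rw [Equiv.swap_apply_right]; exact hs2 x hx
    rw [Equiv.swap_apply_of_ne_of_ne h1 h2, hs3 i h1 h2 x hx]; exact hx
  exact ⟨r * s, C.mem _ ⟨_, hσ⟩ hr, ⟨_, hσ⟩, hσ,
    fun j h1 h2 h3 x hx => by rw [Orth.app_mul, hs3 j h1 h2 x hx, hr2 j h3 x hx]⟩

/-- A vector with few components can be moved off a given set of at most two summands, keeping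
given components. -/
theorem exists_move (S K : Finset (Fin t)) (hKS : K ⊆ S) (hS : S.card ≤ 2) :
    ∀ v, (supp C.dec v).card ≤ 2 → ∃ g : ↥(Cfsg.isometryGroup F ⇑Q), (g : GL ι F) ∈ M ∧ Pres Q D g ∧
      (supp C.dec (Orth.app g v)).card = (supp C.dec v).card ∧ supp C.dec (Orth.app g v) ∩ S ⊆ K ∧
      ∀ j ∈ K, C.dec.proj j (Orth.app g v) = C.dec.proj j v := by
  classical
  intro v
  induction hn : ((supp C.dec v ∩ S) \ K).card generalizing v with
  | zero =>
    intro _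
    refine ⟨1, M.one_mem, ⟨1, fun i x hx => by simpa using hx⟩, by rw [Orth.app_one], ?_, fun j _ => by rw [Orth.app_one]⟩
    rw [Orth.app_one]
    intro x hx
    by_contra hxK
    have h1 : x ∈ (supp C.dec v ∩ S) \ K := Finset.mem_sdiff.mpr ⟨hx, hxK⟩
    rw [Finset.card_eq_zero] at hn
    simp [hn] at h1
  | succ n ih =>
    intro hv
    obtain ⟨l, hl⟩ : ((supp C.dec v ∩ S) \ K).Nonempty := Finset.card_pos.mp (by omega)
    simp only [Finset.mem_sdiff, Finset.mem_inter] at hl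
    obtain ⟨l', hl'⟩ := exists_notMem_finset (supp C.dec v ∪ S) (by
      have := Finset.card_union_le (supp C.dec v) S; have := C.big; omega)
    obtain ⟨l'', hl''⟩ := exists_notMem_finset (insert l' (supp C.dec v)) (by
      have := Finset.card_insert_le l' (supp C.dec v); have := C.big; omega)
    simp only [Finset.mem_union, not_or, not_mem_supp] at hl'
    simp only [Finset.mem_insert, not_or, not_mem_supp] at hl''
    have hll : l ≠ l' := fun e => hl'.2 (e ▸ hl.1.2)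
    obtain ⟨g, hg, hgp, hσ, hfix⟩ := C.exists_swapH (l'' := l'') hll
    have hproj : ∀ j, C.dec.proj (Equiv.swap l l' j) (Orth.app g v) = Orth.app g (C.dec.proj j v) :=
      fun j => proj_app C.dec hσ j v
    have hsupp : supp C.dec (Orth.app g v) = (supp C.dec v).image (Equiv.swap l l') := by
      ext j
      rw [mem_supp, Finset.mem_image]
      have h1 := hproj (Equiv.swap l l' j)
      rw [Equiv.swap_apply_self] at h1
      constructor
      · intro hj
        refine ⟨Equiv.swap l l' j, mem_supp.mpr fun e => hj ?_, Equiv.swap_apply_self _ _ _⟩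
        rw [h1, e, Orth.app_zero]
      · rintro ⟨i, hi, rfl⟩
        rw [hproj, ← Orth.app_zero g]
        exact fun e => mem_supp.mp hi (Orth.app_injective g e)
    have hcard : (supp C.dec (Orth.app g v)).card = (supp C.dec v).card := by
      rw [hsupp, Finset.card_image_of_injective _ (Equiv.injective _)]
    have hl'K : l' ∉ K := fun h => hl'.2 (hKS h)
    have hKeq : ∀ j ∈ K, C.dec.proj j (Orth.app g v) = C.dec.proj j v := by
      intro j hj
      have h1 : j ≠ l := fun e => hl.2 (e ▸ hj)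
      have h2 : j ≠ l' := fun e => hl'K (e ▸ hj)
      have := hproj j
      rw [Equiv.swap_apply_of_ne_of_ne h1 h2] at this
      rw [this]
      by_cases h3 : j = l''
      · subst h3; rw [hl''.2, Orth.app_zero]
      · exact hfix j h1 h2 h3 _ (C.dec.proj_mem j v)
    have hless : ((supp C.dec (Orth.app g v) ∩ S) \ K).card = n := by
      have e : (supp C.dec (Orth.app g v) ∩ S) \ K = ((supp C.dec v ∩ S) \ K).erase l := by
        ext j
        simp only [hsupp, Finset.mem_sdiff, Finset.mem_inter, Finset.mem_image, Finset.mem_erase]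
        constructor
        · rintro ⟨⟨⟨i, hi, rfl⟩, hjS⟩, hjK⟩
          by_cases h1 : i = l
          · subst h1; rw [Equiv.swap_apply_left] at hjS; exact absurd hjS hl'.2
          have h2 : i ≠ l' := fun e => mem_supp.mp hi (e ▸ hl'.1)
          rw [Equiv.swap_apply_of_ne_of_ne h1 h2] at hjS hjK ⊢
          exact ⟨h1, ⟨hi, hjS⟩, hjK⟩
        · rintro ⟨h1, ⟨hi, hjS⟩, hjK⟩
          have h2 : j ≠ l' := fun e => hl'.2 (e ▸ hjS)
          exact ⟨⟨⟨j, hi, Equiv.swap_apply_of_ne_of_ne h1 h2⟩, hjS⟩, hjK⟩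
      rw [e, Finset.card_erase_of_mem (by simp [hl]), hn]; omega
    obtain ⟨g', hg', hgp', hc', hs', hk'⟩ := ih (Orth.app g v) hless (hcard ▸ hv)
    exact ⟨g' * g, M.mul_mem hg' hg, hgp'.mul hgp, by rw [Orth.app_mul, hc', hcard],
      by rw [Orth.app_mul]; exact hs', fun j hj => by rw [Orth.app_mul, hk' j hj, hKeq j hj]⟩

/-- A reflection moving `a` to a non-perpendicular independent vector. -/
theorem exists_second {i : Fin t} {a : Vs} (ha : a ∈ D i) (haQ : Q a ≠ 0) :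
    ∃ d, ∃ hd : Q d ≠ 0, d ∈ D i ∧ polar ⇑Q a d ≠ 0 ∧
      polar ⇑Q a (Orth.app (Orth.refl Q d hd) a) ≠ 0 ∧
      LinearIndependent F ![a, Orth.app (Orth.refl Q d hd) a] := by
  classical
  obtain ⟨hc, -⟩ := card_disp C.dec C.nondeg ha haQ
  obtain ⟨x, hx, hx2⟩ : ∃ x ∈ (disp Q D i a).erase (4 * Q a), x ≠ 2 * Q a := by
    by_contra hcon
    push Not at hcon
    have hle : ((disp Q D i a).erase (4 * Q a)).card ≤ if (2 : F) = 0 then 0 else 1 := by
      split_ifs with h2
      · rw [Nat.le_zero, Finset.card_eq_zero, Finset.eq_empty_iff_forall_notMem]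
        intro y hy
        exact (mem_disp.mp (Finset.mem_erase.mp hy).2).1 (by rw [hcon y hy, h2, zero_mul])
      · exact Finset.card_le_one.mpr fun y hy z hz => (hcon y hy).trans (hcon z hz).symm
    have h1 := Fintype.one_lt_card (α := F)
    rcases C.field with hq | ⟨han, hq⟩
    · split_ifs at hle hc <;> omega
    · rw [if_pos (fun x hx h => han i x hx h)] at hc
      by_cases h2 : (2 : F) = 0
      · rw [if_pos h2] at hle hc; omega
      · have hodd : Fintype.card F % 2 = 1 := FiniteField.odd_card_of_char_ne_two fun hc => h2 (by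
          haveI := ringChar.of_eq hc
          exact CharTwo.two_eq_zero)
        rw [if_neg h2] at hle hc; omega
  obtain ⟨hx4, hx'⟩ := Finset.mem_erase.mp hx
  obtain ⟨hx0, d, hd, hdQ, hxd⟩ := mem_disp.mp hx'
  have hp : polar ⇑Q a d ≠ 0 := fun e => by rw [e, mul_zero] at hxd; exact mul_ne_zero hx0 hdQ hxd
  refine ⟨d, hdQ, hd, hp, ?_, linearIndependent_pair_of_notMem
    (fun e => haQ (by rw [e, QuadraticMap.map_zero])) fun hm => ?_⟩
  · rw [Orth.app_refl, polar_sub_right, polar_smul_right, polar_self, polar_comm _ d a]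
    simp only [two_nsmul, smul_eq_mul]
    intro e
    field_simp at e
    exact hx2 (mul_right_cancel₀ hdQ (by linear_combination hxd - e))
  · obtain ⟨k, hk⟩ := Submodule.mem_span_singleton.mp hm
    rw [Orth.app_refl, polar_comm _ d a] at hk
    set c := (Q d)⁻¹ * polar ⇑Q a d with hcdef
    have hc0 : c ≠ 0 := mul_ne_zero (inv_ne_zero hdQ) hp
    have he : d = (c⁻¹ * (1 - k)) • a := by
      have : c • d = (1 - k) • a := by linear_combination (norm := module) hk
      rw [← smul_smul, ← this, smul_smul, inv_mul_cancel₀ hc0, one_smul]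
    apply hx4
    generalize c⁻¹ * (1 - k) = r at he
    subst he
    rw [polar_smul_right, polar_self, QuadraticMap.map_smul] at hxd
    simp only [two_nsmul, smul_eq_mul] at hxd
    have hr : r * r * Q a ≠ 0 := by rwa [QuadraticMap.map_smul, smul_eq_mul] at hdQ
    exact mul_right_cancel₀ hr (by linear_combination hxd)

theorem disp_big {i : Fin t} {a : Vs} (ha : a ∈ D i) (haQ : Q a ≠ 0) :
    ((2 : F) ≠ 0 ∧ Fintype.card F ≤ 2 * (disp Q D i a).card + 1) ∨
      ((2 : F) = 0 ∧ 2 * Fintype.card F ≤ 4 * (disp Q D i a).card + 4 ∧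
        (5 ≤ Fintype.card F ∨ Fintype.card F ≤ 2 * (disp Q D i a).card)) := by
  classical
  obtain ⟨hc, h4⟩ := card_disp C.dec C.nondeg ha haQ
  by_cases h2 : (2 : F) = 0
  · refine Or.inr ⟨h2, ?_⟩
    have hle := Finset.card_erase_le (s := disp Q D i a) (a := 4 * Q a)
    rw [if_pos h2] at hc
    rcases C.field with hq | ⟨han, -⟩
    · split_ifs at hc <;> omega
    · rw [if_pos (fun x hx h => han i x hx h)] at hc; omega
  · refine Or.inl ⟨h2, ?_⟩
    rw [Finset.card_erase_of_mem (h4 h2), if_neg h2] at hc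
    have : 0 < (disp Q D i a).card := Finset.card_pos.mpr ⟨_, h4 h2⟩
    split_ifs at hc <;> omega

end Cfg

variable (Q M) in
/-- The reflection of `u` times that of `b` lies in `M`. -/
def Cl (b u : ι → F) : Prop :=
  ∃ (hu : Q u ≠ 0) (hb : Q b ≠ 0), ((Orth.refl Q u hu * Orth.refl Q b hb : ↥(Cfsg.isometryGroup F ⇑Q)) : GL ι F) ∈ M

theorem Cl.refl {b u v : Vs} (hu : Cl Q M b u) (hv : Cl Q M b v) (hu0 : Q u ≠ 0) :
    Cl Q M b (Orth.app (Orth.refl Q u hu0) v) := by
  obtain ⟨_, hb, h1⟩ := hu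
  obtain ⟨hv0, _, h3⟩ := hv
  refine ⟨by rwa [Orth.Q_app], hb, ?_⟩
  rw [← Orth.conj_refl _ hv0, Orth.refl_inv]
  have e : Orth.refl Q u hu0 * Orth.refl Q v hv0 * Orth.refl Q u hu0 * Orth.refl Q b hb =
      (Orth.refl Q u hu0 * Orth.refl Q b hb) * (Orth.refl Q v hv0 * Orth.refl Q b hb)⁻¹ *
        (Orth.refl Q u hu0 * Orth.refl Q b hb) := by
    rw [mul_inv_rev, Orth.refl_inv, Orth.refl_inv]
    simp only [mul_assoc]
    rw [← mul_assoc (Orth.refl Q b hb) (Orth.refl Q b hb), Orth.refl_mul_self, one_mul]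
  rw [e]
  exact M.mul_mem (M.mul_mem h1 (M.inv_mem h3)) h1

theorem Cl.map {b u : Vs} {g : ↥(Cfsg.isometryGroup F ⇑Q)} (hgM : (g : GL ι F) ∈ M) (hu : Cl Q M b u)
    (hgb : Cl Q M b (Orth.app g b)) : Cl Q M b (Orth.app g u) := by
  obtain ⟨hu0, hb, h1⟩ := hu
  obtain ⟨hgb0, _, h3⟩ := hgb
  refine ⟨by rwa [Orth.Q_app], hb, ?_⟩
  have e : Orth.refl Q (Orth.app g u) (by rwa [Orth.Q_app]) * Orth.refl Q b hb =
      g * (Orth.refl Q u hu0 * Orth.refl Q b hb) * g⁻¹ * (Orth.refl Q (Orth.app g b) hgb0 * Orth.refl Q b hb) := by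
    rw [← Orth.conj_refl g hu0, ← Orth.conj_refl g hb]
    simp only [mul_assoc, inv_mul_cancel_left]
    rw [← mul_assoc (Orth.refl Q b hb) (Orth.refl Q b hb), Orth.refl_mul_self, one_mul]
  rw [e]
  exact M.mul_mem (M.mul_mem (M.mul_mem hgM h1) (M.inv_mem hgM)) h3

namespace Cfg

variable (C : Cfg Q D M) {i₀ : Fin t} {b : ι → F} (hbD : b ∈ D i₀) (hb : Q b ≠ 0)
include C hbD hb

theorem cl_of_class {l : Fin t} {d : Vs} (hd : d ∈ D l) (hd0 : Q d ≠ 0) (hs : IsSquare (Q d * Q b)) :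
    Cl Q M b d := ⟨hd0, hb, C.pair_mem hd hbD hd0 hb hs⟩

theorem cl_app {g : ↥(Cfsg.isometryGroup F ⇑Q)} (hgM : (g : GL ι F) ∈ M) (hgp : Pres Q D g) {u : Vs} (hu : Cl Q M b u) :
    Cl Q M b (Orth.app g u) := by
  obtain ⟨σ, hσ⟩ := hgp
  exact hu.map hgM (C.cl_of_class hbD hb (hσ i₀ b hbD) (by rwa [Orth.Q_app]) ⟨Q b, by rw [Orth.Q_app]⟩)

/-- A pair of reflections of the same class preserves the class. -/
theorem cl_pair {l l' : Fin t} {d d' : Vs} (hd : d ∈ D l) (hd' : d' ∈ D l') (h0 : Q d ≠ 0) (h0' : Q d' ≠ 0)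
    (hs : IsSquare (Q d * Q d')) {u : Vs} (hu : Cl Q M b u) :
    Cl Q M b (Orth.app (Orth.refl Q d h0) (Orth.app (Orth.refl Q d' h0') u)) := by
  rw [← Orth.app_mul]
  exact C.cl_app hbD hb (C.pair_mem hd hd' h0 h0' hs) ((pres_refl C.dec hd h0).mul (pres_refl C.dec hd' h0')) hu

/-- A vector with a vanishing component may be reflected in any summand. -/
theorem cl_refl_free {l l' : Fin t} {d : Vs} (hd : d ∈ D l) (h0 : Q d ≠ 0) {u : Vs} (hu : Cl Q M b u)
    (hl' : C.dec.proj l' u = 0) : Cl Q M b (Orth.app (Orth.refl Q d h0) u) := by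
  obtain ⟨w, hw, hwQ⟩ := C.value l' h0
  have hw0 : Q w ≠ 0 := hwQ ▸ h0
  have := C.cl_pair hbD hb hd hw h0 hw0 ⟨Q d, by rw [hwQ]⟩ hu
  rwa [Orth.app_refl_of_polar_eq_zero hw0 (x := u) (by rw [← C.dec.polar_proj' hw u, hl', polar_zero_right])] at this

end Cfg

end Cfsg.Agent.Lib.OrthMax.Five
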