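import Cfsg.Agent.Lib.OrthMax.Five.Classes

/-!
An Eichler element with a short centre and an outside direction generates `Ω` over the stabiliser of a
decomposition into planes.
-/

set_option autoImplicit false
set_option linter.unusedSectionVars false

namespace Cfsg.Agent.Lib.OrthMax.Five

open QuadraticMap
open Cfsg.Agent.Lib.OrthMax.Two (exists_nonsing exists_perp mem_pair exists_dual perp_eq singular_cases Q_perp_ne exists_value isSquare_disc disp mem_disp exists_dual_indep card_disp card_filter_quad_le card_filter_lin_le addSubgroup_mul_mem isSquare_mul_of_not)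
open Cfsg.Agent.Lib.FormMax.OrthSL (eichlerGL eichlerGL_mulVec Q_eichlerGL)

variable {ι : Type} [Fintype ι] [DecidableEq ι] {F : Type*} [Field F] [Fintype F]
  {Q : QuadraticForm F (ι → F)} {t : ℕ} {D : Fin t → Submodule F (ι → F)} {M : Subgroup (GL ι F)}

local notation "Vs" => (ι → F)

/-- The directions of the Eichler elements of `M` with centre `e`. -/
def eSub (M : Subgroup (GL ι F)) {e : ι → F} (he : Q e = 0) : AddSubgroup (ι → F) where
  carrier := {a | ∃ ha : polar ⇑Q e a = 0, eichlerGL Q e a he ha ∈ M}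
  add_mem' := by
    rintro a b ⟨ha, ha'⟩ ⟨hb, hb'⟩
    exact ⟨by rw [polar_add_right, ha, hb, add_zero], SingMax.E_add he ha hb ▸ M.mul_mem ha' hb'⟩
  zero_mem' := ⟨by rw [polar_zero_right], by
    convert M.one_mem
    refine SingMax.gl_ext' fun x => ?_
    rw [eichlerGL_mulVec]; simp⟩
  neg_mem' := by
    rintro a ⟨ha, ha'⟩
    refine ⟨by rw [polar_neg_right, ha, neg_zero], ?_⟩
    have h1 : eichlerGL Q e (-a) he (by rw [polar_neg_right, ha, neg_zero]) = (eichlerGL Q e a he ha)⁻¹ :=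
      eq_inv_of_mul_eq_one_left (by
        rw [SingMax.E_add]
        refine SingMax.gl_ext' fun x => ?_
        rw [eichlerGL_mulVec, neg_add_cancel]; simp)
    rw [h1]; exact M.inv_mem ha'

theorem eSub_map {e : Vs} (he : Q e = 0) {g : ↥(Cfsg.isometryGroup F ⇑Q)} (hg : (g : GL ι F) ∈ M) {a : Vs}
    (ha : a ∈ eSub M he) (he' : Q (Orth.app g e) = 0) : Orth.app g a ∈ eSub M he' := by
  obtain ⟨ha0, ha'⟩ := ha
  have h1 := M.mul_mem (M.mul_mem hg ha') (M.inv_mem hg)
  rw [SingMax.conj_E (Orth.mem_isometryGroup_iff.1 g.2)] at h1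
  exact ⟨by rw [Orth.polar_app, ha0], h1⟩

theorem eSub_conj {e : Vs} (he : Q e = 0) {g : ↥(Cfsg.isometryGroup F ⇑Q)} (hg : (g : GL ι F) ∈ M)
    (hge : Orth.app g e = e) {a : Vs} (ha : a ∈ eSub M he) : Orth.app g a ∈ eSub M he := by
  obtain ⟨h1, h2⟩ := eSub_map he hg ha (by rw [Orth.Q_app, he])
  simp only [hge] at h1 h2
  exact ⟨h1, h2⟩

/-- An isometry fixing a singular vector and acting trivially on its perpendicular modulo that vector is an
Eichler element. -/
theorem exists_eq_E (hQ : (QuadraticMap.polarBilin Q).Nondegenerate) {e : Vs} (he0 : e ≠ 0) (he : Q e = 0)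
    (g : GL ι F) (hiso : ∀ y, Q (ap g y) = Q y) (hge : ap g e = e)
    (hperp : ∀ y, polar ⇑Q e y = 0 → ∃ c : F, ap g y = y + c • e) :
    ∃ a, ∃ ha : polar ⇑Q e a = 0, g = eichlerGL Q e a he ha := by
  obtain ⟨f, hf, hef⟩ := Orth.exists_partner hQ he0 he
  set δ := ap g f - f with hδ
  have hgf : ap g f = f + δ := by rw [hδ]; abel
  have hpol : ∀ x y, polar ⇑Q (ap g x) (ap g y) = polar ⇑Q x y := SingMax.polar_of_iso hiso
  have ha : polar ⇑Q e δ = 0 := by
    rw [hδ, polar_sub_right]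
    conv_lhs => arg 1; rw [← hge]
    rw [hpol, sub_self]
  have hQδ : polar ⇑Q δ f + Q δ = 0 := by
    have h1 := hiso f
    rw [hgf, QuadraticMap.map_add (⇑Q), hf, polar_comm _ f δ] at h1
    linear_combination h1
  refine ⟨δ, ha, SingMax.gl_ext' fun v => ?_⟩
  show ap g v = ap (eichlerGL Q e δ he ha) v
  set y := v - polar ⇑Q e v • f with hy
  have hye : polar ⇑Q e y = 0 := by
    rw [hy, polar_sub_right, polar_smul_right, hef, smul_eq_mul, mul_one, sub_self]
  obtain ⟨c, hc⟩ := hperp y hye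
  have hc' : c = -polar ⇑Q δ y := by
    have h1 := hpol f y
    rw [hgf, hc] at h1
    simp only [polar_add_left, polar_add_right, polar_smul_right, polar_comm (⇑Q) δ e, ha,
      polar_comm (⇑Q) f e, hef, smul_eq_mul] at h1
    linear_combination h1
  have hv : v = polar ⇑Q e v • f + y := by rw [hy]; abel
  rw [ap_E, R]
  conv_lhs => rw [hv, ap_add, ap_smul, hgf, hc, hc']
  have hδv : polar ⇑Q δ v = polar ⇑Q e v * polar ⇑Q δ f + polar ⇑Q δ y := by
    conv_lhs => rw [hv]
    rw [polar_add_right, polar_smul_right, smul_eq_mul]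
  rw [hδv, hy]
  linear_combination (norm := module) (polar ⇑Q e v • hQδ) • e

namespace Cfg

variable (C : Cfg Q D M)
include C

/-- A rotation of one summand in `M`. -/
theorem exists_rot (l : Fin t) : ∃ g : ↥(Cfsg.isometryGroup F ⇑Q), (g : GL ι F) ∈ M ∧
    (∀ i, ∀ x ∈ D i, Orth.app g x ∈ D i) ∧ (∀ j, j ≠ l → ∀ x ∈ D j, Orth.app g x = x) ∧
    (∀ x ∈ D l, Orth.app g x = x → x = 0) ∧ (∃ x ∈ D l, Orth.app g (Orth.app g x) ≠ x) ∧
    ∀ e ∈ D l, Q e = 0 → ∃ μ : F, Orth.app g e = μ • e := by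
  obtain ⟨a, ha, haQ⟩ := exists_nonsing C.dec l
  obtain ⟨d, hd, hdD, hp, hp', hli⟩ := C.exists_second ha haQ
  set b := Orth.app (Orth.refl Q d hd) a with hb
  have hbQ : Q b ≠ 0 := by rw [hb, Orth.Q_app]; exact haQ
  have hbD : b ∈ D l := by rw [hb, Orth.app_refl]; exact (D l).sub_mem ha ((D l).smul_mem _ hdD)
  have hab : Q b = Q a := by rw [hb, Orth.Q_app]
  refine ⟨Orth.refl Q a haQ * Orth.refl Q b hbQ, C.pair_mem ha hbD haQ hbQ ⟨Q a, by rw [hab]⟩,
    fun i x hx => ?_, fun j hj x hx => ?_, fun x hx hfix => ?_, ⟨a, ha, fun he => ?_⟩, fun e he heQ => ?_⟩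
  · by_cases hil : i = l
    · subst hil
      rw [Orth.app_mul, Orth.app_refl, Orth.app_refl]
      exact (D i).sub_mem ((D i).sub_mem hx ((D i).smul_mem _ hbD)) ((D i).smul_mem _ ha)
    · rw [Orth.app_mul, Orth.app_refl_of_polar_eq_zero hbQ (C.dec.orth (Ne.symm hil) hbD hx),
        Orth.app_refl_of_polar_eq_zero haQ (C.dec.orth (Ne.symm hil) ha hx)]
      exact hx
  · rw [Orth.app_mul, Orth.app_refl_of_polar_eq_zero hbQ (C.dec.orth (Ne.symm hj) hbD hx),
      Orth.app_refl_of_polar_eq_zero haQ (C.dec.orth (Ne.symm hj) ha hx)]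
  · rw [Orth.app_mul] at hfix
    have h1 := congrArg (Orth.app (Orth.refl Q a haQ)) hfix
    rw [← Orth.app_mul, Orth.refl_mul_self, Orth.app_one, Orth.app_refl, Orth.app_refl, hab,
      sub_right_inj] at h1
    obtain ⟨h2, h3⟩ := LinearIndependent.pair_iff.mp hli ((Q a)⁻¹ * polar ⇑Q a x)
      (-((Q a)⁻¹ * polar ⇑Q b x)) (by rw [neg_smul, ← h1, add_neg_cancel])
    rw [mul_eq_zero, or_iff_right (inv_ne_zero haQ)] at h2
    rw [neg_eq_zero, mul_eq_zero, or_iff_right (inv_ne_zero haQ)] at h3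
    by_contra hx0
    obtain ⟨z, hz, hne⟩ := C.dec.exists_ne hx hx0
    obtain ⟨u, v, rfl⟩ := mem_pair C.dec ha hbD hli hz
    apply hne
    rw [polar_add_right, polar_smul_right, polar_smul_right, polar_comm _ x a, polar_comm _ x b, h2, h3,
      smul_zero, smul_zero, add_zero]
  · simp only [Orth.app_mul] at he
    have h1 := congrArg (fun v => Orth.app (Orth.refl Q b hbQ) (Orth.app (Orth.refl Q a haQ) v)) he
    simp only [← Orth.app_mul, mul_assoc] at h1
    simp only [← mul_assoc, mul_assoc (Orth.refl Q b hbQ) (Orth.refl Q a haQ) (Orth.refl Q a haQ),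
      Orth.refl_mul_self, mul_one, Orth.app_mul] at h1
    simp only [← Orth.app_mul, ← mul_assoc, Orth.refl_mul_self, one_mul] at h1
    rw [Orth.app_mul, Orth.app_mul] at h1
    have hk : (Q a)⁻¹ * polar ⇑Q a b ≠ 0 := mul_ne_zero (inv_ne_zero haQ) hp'
    set k := (Q a)⁻¹ * polar ⇑Q a b with hkdef
    have e1 : Orth.app (Orth.refl Q b hbQ) a = a - k • b := by
      rw [Orth.app_refl, hab, polar_comm _ b a]
    have e2 : Orth.app (Orth.refl Q a haQ) b = b - k • a := by rw [Orth.app_refl]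
    rw [e1, Orth.app_sub, Orth.app_smul, Orth.app_refl_self, e2, Orth.app_neg, e1] at h1
    obtain ⟨h2, -⟩ := LinearIndependent.pair_iff.mp hli (k * k) (-(2 * k))
      (by linear_combination (norm := module) h1)
    exact hk (mul_self_eq_zero.mp h2)
  · by_cases he0 : e = 0
    · exact ⟨0, by rw [he0, Orth.app_zero, smul_zero]⟩
    have hperp : ∀ v ∈ D l, Q v ≠ 0 → polar ⇑Q v e ≠ 0 := fun v hv hvQ h0 => hvQ <| by
      obtain ⟨k, hk⟩ := perp_eq C.dec C.nondeg he he0 he he0 (by rw [polar_self, heQ, nsmul_zero]) hv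
        (by rw [polar_comm]; exact h0)
      rw [hk, QuadraticMap.map_smul, heQ, smul_zero]
    set f := Orth.app (Orth.refl Q b hbQ) e with hf
    have hfD : f ∈ D l := by rw [hf, Orth.app_refl]; exact (D l).sub_mem he ((D l).smul_mem _ hbD)
    have hfQ : Q f = 0 := by rw [hf, Orth.Q_app, heQ]
    have hef : polar ⇑Q e f ≠ 0 := by
      rw [hf, Orth.app_refl, polar_sub_right, polar_smul_right, polar_self, heQ, nsmul_zero, zero_sub,
        neg_ne_zero, polar_comm _ e b, smul_eq_mul]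
      exact mul_ne_zero (mul_ne_zero (inv_ne_zero hbQ) (hperp b hbD hbQ)) (hperp b hbD hbQ)
    rw [Orth.app_mul, ← hf]
    rcases singular_cases C.dec he hfD (z := Orth.app (Orth.refl Q a haQ) f)
        (by rw [Orth.app_refl]; exact (D l).sub_mem hfD ((D l).smul_mem _ ha)) heQ hfQ
        (by rw [Orth.Q_app, hfQ]) hef with hc | ⟨k, hk⟩
    · exact hc
    exfalso
    rw [Orth.app_refl] at hk
    have hf0 : f ≠ 0 := fun e0 => hef (by rw [e0, polar_zero_right])
    set c := (Q a)⁻¹ * polar ⇑Q a f with hcdef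
    have hc0 : c = 0 := by
      by_contra hc0
      have : c • a = (1 - k) • f := by linear_combination (norm := module) -hk
      have h4 := congrArg Q this
      rw [QuadraticMap.map_smul, QuadraticMap.map_smul, hfQ, smul_zero, smul_eq_mul] at h4
      exact mul_ne_zero (mul_ne_zero hc0 hc0) haQ h4
    obtain ⟨k', hk'⟩ := perp_eq C.dec C.nondeg hfD hf0 hfD hf0 (by rw [polar_self, hfQ, nsmul_zero]) ha
      (by
        rw [polar_comm]
        exact (mul_eq_zero.mp hc0).resolve_left (inv_ne_zero haQ))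
    rw [hk', QuadraticMap.map_smul, hfQ, smul_zero] at haQ
    exact haQ rfl

/-- An additive group invariant under the reflections of a plane summand contains it or meets it trivially. -/
theorem le_of_refl (l : Fin t) (A : AddSubgroup Vs)
    (hA : ∀ d ∈ D l, ∀ (hd : Q d ≠ 0), ∀ x ∈ D l, x ∈ A → Orth.app (Orth.refl Q d hd) x ∈ A)
    {y : Vs} (hy : y ∈ D l) (hy0 : y ≠ 0) (hyA : y ∈ A) : ∀ x ∈ D l, x ∈ A := by
  classical
  have hstep : ∀ d ∈ D l, Q d ≠ 0 → ∀ x ∈ D l, x ∈ A → ((Q d)⁻¹ * polar ⇑Q d x) • d ∈ A :=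
    fun d hd hdQ x hx hxA => by
      have h1 := A.sub_mem hxA (hA d hd hdQ x hx hxA)
      rwa [Orth.app_refl, sub_sub_cancel] at h1
  obtain ⟨a, ha, haQ, haA⟩ : ∃ a ∈ D l, Q a ≠ 0 ∧ a ∈ A := by
    by_cases hyQ : Q y = 0
    swap
    · exact ⟨y, hy, hyQ, hyA⟩
    obtain ⟨d, hd, hdQ⟩ := exists_nonsing C.dec l
    have hp : polar ⇑Q d y ≠ 0 := fun h0 => hdQ <| by
      obtain ⟨k, hk⟩ := perp_eq C.dec C.nondeg hy hy0 hy hy0 (by rw [polar_self, hyQ, nsmul_zero]) hd
        (by rw [polar_comm]; exact h0)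
      rw [hk, QuadraticMap.map_smul, hyQ, smul_zero]
    exact ⟨_, (D l).smul_mem _ hd, by
      rw [QuadraticMap.map_smul]
      exact smul_ne_zero (mul_ne_zero (mul_ne_zero (inv_ne_zero hdQ) hp) (mul_ne_zero (inv_ne_zero hdQ) hp)) hdQ,
      hstep d hd hdQ y hy hyA⟩
  let K : AddSubgroup F := A.comap (((LinearMap.id (R := F) (M := F)).smulRight a).toAddMonoidHom)
  have hK : ∀ s, s ∈ K ↔ s • a ∈ A := fun s => Iff.rfl
  have hT : ∀ r ∈ insert 0 ((disp Q D l a).image fun x => x * (Q a)⁻¹), ∀ s ∈ K, r * s ∈ K := by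
    intro r hr s hs
    rw [hK] at hs ⊢
    rw [Finset.mem_insert, Finset.mem_image] at hr
    rcases hr with rfl | ⟨x, hx, rfl⟩
    · rw [zero_mul, zero_smul]; exact A.zero_mem
    obtain ⟨-, d, hd, hdQ, hxd⟩ := mem_disp.mp hx
    have h1 := hstep d hd hdQ _ ((D l).smul_mem s ha) hs
    have h3 := hstep a ha haQ _ ((D l).smul_mem _ hd) h1
    convert h3 using 2
    rw [polar_smul_right, polar_smul_right, polar_comm _ d a, smul_eq_mul, smul_eq_mul]
    field_simp
    linear_combination s * hxd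
  have hall := addSubgroup_mul_mem K _ (by
    rw [Finset.card_insert_of_notMem, Finset.card_image_of_injective _ (mul_left_injective₀ (inv_ne_zero haQ))]
    · rcases C.disp_big ha haQ with ⟨-, hb⟩ | ⟨-, hb, hb'⟩
      · have h1 := Fintype.one_lt_card (α := F); nlinarith
      · have h1 := Fintype.one_lt_card (α := F)
        rcases hb' with hb' | hb' <;> nlinarith
    · rw [Finset.mem_image]
      rintro ⟨x, hx, he⟩
      exact (mem_disp.mp hx).1 ((mul_eq_zero.mp he).resolve_right (inv_ne_zero haQ))) hT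
  have hline : ∀ s : F, s • a ∈ A := fun s => by
    have := hall s 1 (by rw [hK, one_smul]; exact haA)
    rwa [mul_one, hK] at this
  obtain ⟨d, hd, hdD, hp, hp', hli⟩ := C.exists_second ha haQ
  intro x hx
  set b := Orth.app (Orth.refl Q d hd) a with hb
  have hbD : b ∈ D l := by rw [hb, Orth.app_refl]; exact (D l).sub_mem ha ((D l).smul_mem _ hdD)
  obtain ⟨u, v, rfl⟩ := mem_pair C.dec ha hbD hli hx
  refine A.add_mem (hline u) ?_
  rw [hb, ← Orth.app_smul]
  exact hA d hdD hd _ ((D l).smul_mem _ ha) (hline v)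

theorem outside_mem {e a : Vs} (he : Q e = 0) (hsupp : (supp C.dec e).card ≤ 2) (ha : a ∈ eSub M he) {l : Fin t}
    (hl : C.dec.proj l e = 0) (hla : C.dec.proj l a ≠ 0) :
    ∀ j, C.dec.proj j e = 0 → ∀ x ∈ D j, x ∈ eSub M he := by
  classical
  set A := eSub M he
  have hfixe : ∀ (g : ↥(Cfsg.isometryGroup F ⇑Q)) (P : Fin t → Prop),
      (∀ j, P j → ∀ x ∈ D j, Orth.app g x = x) → (∀ j, ¬ P j → C.dec.proj j e = 0) → Orth.app g e = e := by
    intro g P h1 h2
    rw [← C.dec.sum_proj e, show Orth.app g (∑ j, C.dec.proj j e) = ∑ j, Orth.app g (C.dec.proj j e) from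
      map_sum (Matrix.mulVecLin ((g : GL ι F) : Matrix ι ι F)) _ _]
    refine Finset.sum_congr rfl fun j _ => ?_
    by_cases hj : P j
    · exact h1 j hj _ (C.dec.proj_mem j e)
    · rw [h2 j hj, Orth.app_zero]
  obtain ⟨g, hg, hgD, hgfix, hgfree, -, -⟩ := C.exists_rot l
  have hge : Orth.app g e = e := hfixe g (· ≠ l) hgfix fun j hj => by rw [not_not.mp hj]; exact hl
  have hy : Orth.app g a - a = Orth.app g (C.dec.proj l a) - C.dec.proj l a := by
    have hlin : ∀ v, Orth.app g v = Matrix.mulVecLin ((g : GL ι F) : Matrix ι ι F) v := fun v => rfl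
    conv_lhs => rw [← C.dec.sum_proj a, hlin, map_sum, ← Finset.sum_sub_distrib]
    refine Finset.sum_eq_single l (fun j _ hj => ?_) (by simp)
    rw [← hlin, hgfix j hj _ (C.dec.proj_mem j a), sub_self]
  have hDl : ∀ x ∈ D l, x ∈ A := by
    obtain ⟨l', hl'⟩ := exists_notMem_finset (insert l (supp C.dec e)) (by
      have := Finset.card_insert_le l (supp C.dec e); have := C.big; omega)
    simp only [Finset.mem_insert, not_or, not_mem_supp] at hl'
    refine C.le_of_refl l A (fun d hd hdQ x hx hxA => ?_)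
      ((D l).sub_mem (hgD l _ (C.dec.proj_mem l a)) (C.dec.proj_mem l a))
      (fun h0 => hla (hgfree _ (C.dec.proj_mem l a) (sub_eq_zero.mp h0)))
      (hy ▸ A.sub_mem (eSub_conj he hg hge ha) ha)
    obtain ⟨w, hw, hwQ⟩ := C.value l' hdQ
    have hw0 : Q w ≠ 0 := hwQ ▸ hdQ
    have hmem := C.pair_mem hd hw hdQ hw0 ⟨Q d, by rw [hwQ]⟩
    have h1 := eSub_conj he hmem (hfixe _ (fun j => j ≠ l ∧ j ≠ l') (fun j hj y hy => by
        rw [Orth.app_mul, Orth.app_refl_of_polar_eq_zero hw0 (C.dec.orth (Ne.symm hj.2) hw hy),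
          Orth.app_refl_of_polar_eq_zero hdQ (C.dec.orth (Ne.symm hj.1) hd hy)])
      (fun j hj => by
        rcases not_and_or.mp hj with h | h <;> rw [not_not.mp h]
        · exact hl
        · exact hl'.2)) hxA
    rwa [Orth.app_mul, Orth.app_refl_of_polar_eq_zero hw0 (x := x) (C.dec.orth hl'.1 hw hx)] at h1
  intro j hj x hx
  by_cases hjl : j = l
  · exact hDl x (hjl ▸ hx)
  obtain ⟨l'', hl''⟩ := exists_notMem_finset (insert l (insert j (supp C.dec e))) (by
    have := Finset.card_insert_le l (insert j (supp C.dec e)); have := Finset.card_insert_le j (supp C.dec e)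
    have := C.big; omega)
  simp only [Finset.mem_insert, not_or, not_mem_supp] at hl''
  obtain ⟨s, hs, -, hσ, hsfix⟩ := C.exists_swapH (l'' := l'') (Ne.symm hjl)
  have hse : Orth.app s e = e := hfixe s (fun i => i ≠ l ∧ i ≠ j ∧ i ≠ l'')
    (fun i hi => hsfix i hi.1 hi.2.1 hi.2.2) fun i hi => by
      simp only [not_and_or, not_not] at hi
      rcases hi with rfl | rfl | rfl
      exacts [hl, hj, hl''.2.2]
  have hxl : Orth.app s x ∈ D l := by
    have := hσ j x hx
    rwa [Equiv.swap_apply_right] at this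
  have h1 := eSub_conj he (g := s⁻¹) (M.inv_mem hs) (by
    conv_lhs => rw [← hse]
    rw [Orth.app_inv_app]) (hDl _ hxl)
  rwa [Orth.app_inv_app] at h1

/-- A short Eichler element with an outside direction forces `Ω`. -/
theorem omega_of_E {e a : Vs} (he0 : e ≠ 0) (he : Q e = 0) (hsupp : (supp C.dec e).card ≤ 2)
    (ha : a ∈ eSub M he) {l : Fin t} (hl : C.dec.proj l e = 0) (hla : C.dec.proj l a ≠ 0) :
    Cfsg.Geo.omegaGL ⇑Q ≤ M := by
  classical
  have hout := C.outside_mem he hsupp ha hl hla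
  obtain ⟨g, hg, ⟨σ, hσ⟩, hcard, hdisj, -⟩ := C.exists_move (supp C.dec e) ∅ (Finset.empty_subset _) hsupp e hsupp
  set e'' := Orth.app g e with he''
  have he''Q : Q e'' = 0 := by rw [he'', Orth.Q_app, he]
  have hout'' : ∀ j, C.dec.proj j e'' = 0 → ∀ x ∈ D j, x ∈ eSub M he''Q :=
    C.outside_mem he''Q (hcard ▸ hsupp) (eSub_map he hg ha he''Q) (l := σ l)
      (by rw [he'', proj_app C.dec hσ, hl, Orth.app_zero])
      (by rw [proj_app C.dec hσ, ← Orth.app_zero g]; exact fun e1 => hla (Orth.app_injective g e1))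
  have hsum : ∀ (A : AddSubgroup Vs) (v : Vs), (∀ j, C.dec.proj j v ∈ A) → v ∈ A := fun A v hv => by
    rw [← C.dec.sum_proj v]; exact A.sum_mem fun j _ => hv j
  have hfull : SingMax.Full Q M e := by
    intro a' he' ha'
    suffices h' : a' ∈ eSub M he from h'.2
    set x := ∑ j ∈ supp C.dec e, C.dec.proj j a' with hx
    have hxo : ∀ j, j ∉ supp C.dec e → C.dec.proj j x = 0 := fun j hj => by
      rw [hx, map_sum]
      exact Finset.sum_eq_zero fun i hi =>
        C.dec.proj_of_mem_ne (fun h' => hj (by rw [h']; exact hi)) (C.dec.proj_mem i a')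
    have hsplit : a' = x + ∑ j ∈ (supp C.dec e)ᶜ, C.dec.proj j a' := by
      rw [hx, Finset.sum_add_sum_compl, C.dec.sum_proj]
    have hrest : ∑ j ∈ (supp C.dec e)ᶜ, C.dec.proj j a' ∈ eSub M he :=
      AddSubgroup.sum_mem _ fun j hj => hout j (not_mem_supp.mp (Finset.mem_compl.mp hj)) _ (C.dec.proj_mem j a')
    have hex : polar ⇑Q e x = 0 := by
      have h1 := hrest.1
      rw [hsplit, polar_add_right, h1, add_zero] at ha'
      exact ha'
    rw [hsplit]
    refine AddSubgroup.add_mem _ ?_ hrest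
    have hx'' : x ∈ eSub M he''Q := hsum _ _ fun j => by
      by_cases hj : j ∈ supp C.dec e
      · refine hout'' j (not_mem_supp.mp fun h => ?_) _ (C.dec.proj_mem j x)
        have := hdisj (Finset.mem_inter.mpr ⟨h, hj⟩)
        simp at this
      · rw [hxo j hj]; exact AddSubgroup.zero_mem _
    obtain ⟨hx1, hx2⟩ := hx''
    have he''0 : e'' ≠ 0 := fun h0 => he0 (Orth.app_injective g (h0.trans (Orth.app_zero g).symm))
    obtain ⟨m, hm⟩ := supp_nonempty (h := C.dec) he''0
    obtain ⟨y, hy, hey⟩ := exists_dual C.dec C.nondeg (C.dec.proj_mem m e'') (mem_supp.mp hm)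
    rw [C.dec.polar_proj hy] at hey
    have hme : m ∉ supp C.dec e := fun h => by
      have := hdisj (Finset.mem_inter.mpr ⟨hm, h⟩)
      simp at this
    have hyA : y ∈ eSub M he := hout m (not_mem_supp.mp hme) y hy
    have horth : polar ⇑Q x y = 0 := by
      rw [polar_comm, ← C.dec.polar_proj' hy x, hxo m hme, polar_zero_right]
    have heA : ∀ c : F, c • e'' ∈ eSub M he := fun c => hsum _ _ fun j => by
      by_cases hj : j ∈ supp C.dec e''
      · refine hout j (not_mem_supp.mp fun h => ?_) _ (C.dec.proj_mem j _)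
        have := hdisj (Finset.mem_inter.mpr ⟨hj, h⟩)
        simp at this
      · rw [map_smul, not_mem_supp.mp hj, smul_zero]; exact AddSubgroup.zero_mem _
    have hee : polar ⇑Q e'' e = 0 := by
      rw [polar_comm]
      exact (heA 1).1 |> fun h => by rwa [one_smul] at h
    have happ : ∀ v, Orth.app (SingMax.eIso Q e'' x he''Q hx1) v = v + R Q e'' x v :=
      fun v => ap_E he''Q hx1 v
    have hge : Orth.app (SingMax.eIso Q e'' x he''Q hx1) e = e := by
      rw [happ, R_of_orth hee (by rw [polar_comm]; exact hex), add_zero]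
    have h1 := eSub_conj he (g := SingMax.eIso Q e'' x he''Q hx1) hx2 hge hyA
    rw [happ, R, hey, one_smul, horth, zero_add, mul_one] at h1
    have h2 := AddSubgroup.add_mem _ (AddSubgroup.sub_mem _ h1 hyA) (heA (Q x))
    rwa [show y + (x - Q x • e'') - y + Q x • e'' = x by abel] at h2
  obtain ⟨m, hm⟩ := supp_nonempty (h := C.dec) he0
  set em := C.dec.proj m e with hem
  have hemD : em ∈ D m := C.dec.proj_mem m e
  obtain ⟨d, hd, hdQ, hdp⟩ : ∃ d ∈ D m, Q d ≠ 0 ∧ polar ⇑Q d em ≠ 0 := by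
    by_cases hQm : Q em = 0
    · obtain ⟨d, hd, hdQ⟩ := exists_nonsing C.dec m
      refine ⟨d, hd, hdQ, fun h0 => hdQ ?_⟩
      obtain ⟨k, hk⟩ := perp_eq C.dec C.nondeg hemD (mem_supp.mp hm) hemD (mem_supp.mp hm)
        (by rw [polar_self, hQm, nsmul_zero]) hd (by rw [polar_comm]; exact h0)
      rw [hk, QuadraticMap.map_smul, hQm, smul_zero]
    · obtain ⟨d, hd, hdD, hp, -, -⟩ := C.exists_second hemD hQm
      exact ⟨d, hdD, hd, by rwa [polar_comm]⟩
  obtain ⟨w, hw, hwQ⟩ := C.value l hdQ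
  have hw0 : Q w ≠ 0 := hwQ ▸ hdQ
  have hh := C.pair_mem hd hw hdQ hw0 ⟨Q d, by rw [hwQ]⟩
  have hfull' := hfull.map hh (fun y => Orth.mem_isometryGroup_iff.1 (Orth.refl Q d hdQ * Orth.refl Q w hw0).2 y)
  have hhe : Orth.app (Orth.refl Q d hdQ * Orth.refl Q w hw0) e = e - ((Q d)⁻¹ * polar ⇑Q d e) • d := by
    rw [Orth.app_mul, Orth.app_refl_of_polar_eq_zero hw0 (x := e)
      (by rw [← C.dec.polar_proj' hw e, hl, polar_zero_right]), Orth.app_refl]
  refine SingMax.omega_le_of_eichler C.nondeg C.card_ge fun u a' hu ha' => ?_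
  by_cases hu0 : u = 0
  · subst hu0
    convert M.one_mem
    refine SingMax.gl_ext' fun y => ?_
    rw [eichlerGL_mulVec]; simp
  refine SingMax.full_all C.nondeg hfull hfull' he ?_ ?_ hu hu0 a' hu ha'
  · show Q (Orth.app (Orth.refl Q d hdQ * Orth.refl Q w hw0) e) = 0
    rw [Orth.Q_app, he]
  · show polar ⇑Q e (Orth.app (Orth.refl Q d hdQ * Orth.refl Q w hw0) e) ≠ 0
    rw [hhe, polar_sub_right, polar_smul_right, polar_self, he, nsmul_zero, zero_sub, neg_ne_zero,
      polar_comm _ e d, smul_eq_mul]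
    rw [← C.dec.polar_proj' hd e]
    exact mul_ne_zero (mul_ne_zero (inv_ne_zero hdQ) hdp) hdp

/-- An element fixing a singular vector of a summand and moving the summand forces `Ω`. -/
theorem omega_of_sing {l : Fin t} {e : Vs} (he : e ∈ D l) (he0 : e ≠ 0) (heQ : Q e = 0)
    {m : ↥(Cfsg.isometryGroup F ⇑Q)} (hm : (m : GL ι F) ∈ M) (hme : Orth.app m e = e)
    {x₀ : Vs} (hx₀ : x₀ ∈ D l) (hout : Orth.app m x₀ ∉ D l) : Cfsg.Geo.omegaGL ⇑Q ≤ M := by
  obtain ⟨g, hg, hgD, hgfix, hgfree, -, heig⟩ := C.exists_rot l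
  obtain ⟨μ, hμ⟩ := heig e he heQ
  have hμ0 : μ ≠ 0 := fun h0 => he0 (Orth.app_injective g (by rw [hμ, h0, zero_smul, Orth.app_zero]))
  have hginv : Orth.app g⁻¹ e = μ⁻¹ • e := by
    have := congrArg (fun v => Orth.app g⁻¹ (μ⁻¹ • v)) hμ
    simp only [smul_smul, inv_mul_cancel₀ hμ0, one_smul] at this
    rw [Orth.app_smul, Orth.app_inv_app] at this
    exact this.symm
  have hminv : Orth.app m⁻¹ e = e := by
    conv_lhs => rw [← hme]
    rw [Orth.app_inv_app]
  have hlin : ∀ (k : ↥(Cfsg.isometryGroup F ⇑Q)) (v : Vs), Orth.app k v - v =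
      ∑ j, (Orth.app k (C.dec.proj j v) - C.dec.proj j v) := fun k v => by
    rw [Finset.sum_sub_distrib, C.dec.sum_proj]
    congr 1
    show Matrix.mulVecLin ((k : GL ι F) : Matrix ι ι F) v = _
    conv_lhs => rw [← C.dec.sum_proj v]
    rw [map_sum]; rfl
  have hperpline : ∀ y ∈ D l, polar ⇑Q e y = 0 → ∃ c : F, y = c • e := fun y hy hey =>
    perp_eq C.dec C.nondeg he he0 he he0 (by rw [polar_self, heQ, nsmul_zero]) hy hey
  have hgy : ∀ y, polar ⇑Q e y = 0 → ∃ c : F, Orth.app g y = y + c • e ∧ ∃ c' : F, Orth.app g⁻¹ y = y + c' • e := by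
    intro y hey
    obtain ⟨c, hc⟩ := hperpline _ (C.dec.proj_mem l y) (by rw [C.dec.polar_proj' he, hey])
    have h1 : Orth.app g y - y = (c * μ - c) • e := by
      rw [hlin, Finset.sum_eq_single l (fun j _ hj => by rw [hgfix j hj _ (C.dec.proj_mem j y), sub_self])
        (by simp), hc, Orth.app_smul, hμ, smul_smul, sub_smul]
    refine ⟨c * μ - c, by rw [← h1]; abel, -((c * μ - c) * μ⁻¹), ?_⟩
    have h2 := congrArg (Orth.app g⁻¹) h1
    rw [Orth.app_sub, Orth.app_inv_app, Orth.app_smul, hginv, smul_smul] at h2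
    rw [neg_smul, ← h2]; abel
  set x := m * g * m⁻¹ * g⁻¹ with hx
  have hxM : (x : GL ι F) ∈ M := M.mul_mem (M.mul_mem (M.mul_mem hm hg) (M.inv_mem hm)) (M.inv_mem hg)
  obtain ⟨a, ha, hxa⟩ := exists_eq_E C.nondeg he0 heQ (x : GL ι F) (Orth.mem_isometryGroup_iff.1 x.2)
    (by
      show Orth.app x e = e
      rw [hx, Orth.app_mul, Orth.app_mul, Orth.app_mul, hginv, Orth.app_smul, hminv, Orth.app_smul, hμ,
        smul_smul, inv_mul_cancel₀ hμ0, one_smul, hme])
    fun y hey => by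
      obtain ⟨-, -, c', hc'⟩ := hgy y hey
      have hey' : polar ⇑Q e (Orth.app m⁻¹ y) = 0 := by
        rw [← hminv, Orth.polar_app, hey]
      obtain ⟨c, hc, -⟩ := hgy _ hey'
      refine ⟨c + c' * μ, ?_⟩
      show Orth.app x y = _
      rw [hx, Orth.app_mul, Orth.app_mul, Orth.app_mul, hc', Orth.app_add, Orth.app_smul, hminv, Orth.app_add,
        hc, Orth.app_smul, hμ, Orth.app_add, Orth.app_add, Orth.app_app_inv, Orth.app_smul, hme, smul_smul,
        Orth.app_smul, hme, add_smul]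
      abel
  have hsupp : (supp C.dec e).card ≤ 2 := by
    refine le_trans (Finset.card_le_one.mpr fun i hi j hj => ?_) (by omega)
    have : ∀ i, i ∈ supp C.dec e → i = l := fun i hi => by
      by_contra hne
      exact mem_supp.mp hi (C.dec.proj_of_mem_ne hne he)
    rw [this i hi, this j hj]
  by_cases hal : ∃ j, j ≠ l ∧ C.dec.proj j a ≠ 0
  · obtain ⟨j, hj, hja⟩ := hal
    exact C.omega_of_E he0 heQ hsupp ⟨ha, hxa ▸ hxM⟩ (C.dec.proj_of_mem_ne hj he) hja
  exfalso
  push Not at hal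
  obtain ⟨k, hk⟩ := hperpline a (C.dec.mem_of_proj hal) ha
  have hcomm : ∀ v, Orth.app m (Orth.app g v) = Orth.app g (Orth.app m v) := by
    intro v
    have h1 : Orth.app x (Orth.app g (Orth.app m v)) = Orth.app g (Orth.app m v) := by
      show ap (x : GL ι F) _ = _
      rw [hxa, ap_E, R, hk, QuadraticMap.map_smul, heQ, polar_smul_left]
      simp [smul_smul, mul_comm]
    rw [hx, Orth.app_mul, Orth.app_mul, Orth.app_mul, Orth.app_inv_app, Orth.app_inv_app] at h1
    exact h1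
  let L : D l →ₗ[F] D l :=
    ((Matrix.mulVecLin ((g : GL ι F) : Matrix ι ι F) - LinearMap.id).comp (D l).subtype).codRestrict (D l)
      fun v => (D l).sub_mem (hgD l _ v.2) v.2
  have hL : Function.Surjective L := LinearMap.injective_iff_surjective.mp
    ((injective_iff_map_eq_zero _).mpr fun v hv =>
      Subtype.ext (hgfree _ v.2 (sub_eq_zero.mp (congrArg Subtype.val hv))))
  obtain ⟨v, hv⟩ := hL ⟨x₀, hx₀⟩
  have hv' : Orth.app g (v : Vs) - (v : Vs) = x₀ := congrArg Subtype.val hv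
  apply hout
  rw [← hv', Orth.app_sub, hcomm, hlin]
  rw [Finset.sum_eq_single l (fun j _ hj => by rw [hgfix j hj _ (C.dec.proj_mem j _), sub_self]) (by simp)]
  exact (D l).sub_mem (hgD l _ (C.dec.proj_mem l _)) (C.dec.proj_mem l _)

end Cfg

end Cfsg.Agent.Lib.OrthMax.Five
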